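import Groth.Prelude.Def_AlgGrp
import Groth.Agent.GrpHomLib.Artinian
import Groth.Agent.SchDenseLib.Basic
import Mathlib

/-! An aligned subgroup of a space with the weak Néron mapping property is separated. -/

set_option autoImplicit false
set_option backward.isDefEq.respectTransparency false
set_option backward.isDefEq.respectTransparency.types false
set_option linter.style.haveILetI false
set_option maxHeartbeats 1000000

universe u

open CategoryTheory CategoryTheory.Limits MonoidalCategory CartesianMonoidalCategory MonObj AlgebraicGeometry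

noncomputable section

namespace Groth.Agent.AlignedSepLib

theorem isSeparated_of_aligned {S : Scheme.{u}} [IsLocallyNoetherian S] (S₀ : S.Opens)
    (G : Over S) (hG : ∀ U : Over S, Etale U.hom → Function.Bijective (fun g : U ⟶ G => (Over.pullback S₀.ι).map g))
    (H : Over S) [GrpObj H] [LocallyOfFiniteType H.hom] (j : H ⟶ G) [Mono j.left]
    (hal : Etale (η[H].left.imageι ≫ H.hom))
    (h0 : IsSeparated (pullback.snd H.hom S₀.ι)) : IsSeparated H.hom := by
  let e : S ⟶ H.left := η[H].left
  have hem : e ≫ H.hom = 𝟙 S := Over.w η[H]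
  haveI : IsLocallyNoetherian H.left := LocallyOfFiniteType.isLocallyNoetherian H.hom
  haveI : QuasiCompact e := by
    haveI : QuasiCompact (e ≫ H.hom) := by rw [hem]; infer_instance
    exact QuasiCompact.of_comp e H.hom
  let t : S ⟶ e.image := e.toImage
  haveI : IsSchemeTheoreticallyDominant t := SchDenseLib.toImage_dominant e
  let g : e.image ⟶ S := e.imageι ≫ H.hom
  have htg : t ≫ g = 𝟙 S := by rw [← hem]; show e.toImage ≫ e.imageι ≫ _ = _; rw [Scheme.Hom.toImage_imageι_assoc]
  have ht : t ≫ e.imageι = e := e.toImage_imageι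
  let σ : (S₀ : Scheme.{u}) ⟶ pullback H.hom S₀.ι :=
    pullback.lift (S₀.ι ≫ e) (𝟙 _) (by rw [Category.assoc, hem, Category.comp_id, Category.id_comp])
  haveI : IsClosedImmersion σ := by
    haveI := h0
    haveI : IsClosedImmersion (σ ≫ pullback.snd H.hom S₀.ι) := by rw [pullback.lift_snd]; infer_instance
    exact IsClosedImmersion.of_comp σ (pullback.snd H.hom S₀.ι)
  let c : pullback g S₀.ι ⟶ pullback H.hom S₀.ι :=
    pullback.lift (pullback.fst g S₀.ι ≫ e.imageι) (pullback.snd g S₀.ι) (by rw [Category.assoc]; exact pullback.condition)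
  haveI : IsClosedImmersion c :=
    MorphismProperty.of_isPullback
      (IsPullback.of_bot (v₁₁ := c) (v₁₂ := e.imageι)
        (show IsPullback (pullback.fst g S₀.ι) (c ≫ pullback.snd H.hom S₀.ι) (e.imageι ≫ H.hom) S₀.ι by
          rw [pullback.lift_snd]; exact IsPullback.of_hasPullback g S₀.ι)
        (pullback.lift_fst _ _ _).symm (IsPullback.of_hasPullback H.hom S₀.ι))
      (inferInstanceAs (IsClosedImmersion e.imageι))
  let t₀ : (S₀ : Scheme.{u}) ⟶ pullback g S₀.ι :=
    pullback.lift (S₀.ι ≫ t) (𝟙 _) (by rw [Category.assoc, htg, Category.comp_id, Category.id_comp])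
  have ht₀c : t₀ ≫ c = σ := by
    refine pullback.hom_ext ?_ ?_
    · rw [Category.assoc, pullback.lift_fst, pullback.lift_fst_assoc, pullback.lift_fst, Category.assoc, ht]
    · rw [Category.assoc, pullback.lift_snd, pullback.lift_snd, pullback.lift_snd]
  haveI : IsClosedImmersion t₀ := by
    haveI : IsClosedImmersion (t₀ ≫ c) := by rw [ht₀c]; infer_instance
    exact IsClosedImmersion.of_comp t₀ c
  haveI : IsSchemeTheoreticallyDominant t₀ := by
    haveI : QuasiCompact t := by
      haveI : QuasiCompact (t ≫ e.imageι) := by rw [ht]; infer_instance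
      exact QuasiCompact.of_comp t e.imageι
    have hsq : IsPullback S₀.ι t₀ t (pullback.fst g S₀.ι) := by
      have h2 : IsPullback (pullback.fst g S₀.ι) (pullback.snd g S₀.ι) g S₀.ι := IsPullback.of_hasPullback g S₀.ι
      refine IsPullback.of_bot (v₂₁ := pullback.snd g S₀.ι) (v₂₂ := g) (h₃₁ := S₀.ι) ?_ (pullback.lift_fst _ _ _).symm h2
      rw [pullback.lift_snd, htg]
      exact IsPullback.of_id_snd
    exact IsSchemeTheoreticallyDominant.of_isPullback hsq
  haveI : IsIso t₀ := IsClosedImmersion.isIso_of_ker_eq t₀ (𝟙 _) t₀ (by simp) (by simp [t₀.ker_eq_bot])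
  let E : Over S := Over.mk g
  let inc : E ⟶ H := Over.homMk e.imageι rfl
  have h1 : (1 : E ⟶ H).left = g ≫ e := by
    rw [Hom.one_def, Over.comp_left, show (toUnit E).left = g from rfl]
  have hF : (Over.pullback S₀.ι).map inc = (Over.pullback S₀.ι).map (1 : E ⟶ H) := by
    refine Over.OverMorphism.ext ((cancel_epi t₀).1 (pullback.hom_ext ?_ ?_))
    · show (t₀ ≫ pullback.lift _ _ _) ≫ pullback.fst _ _ = (t₀ ≫ pullback.lift _ _ _) ≫ pullback.fst _ _
      erw [Category.assoc, Category.assoc, pullback.lift_fst, pullback.lift_fst, pullback.lift_fst_assoc,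
        pullback.lift_fst_assoc]
      show (S₀.ι ≫ t) ≫ e.imageι = (S₀.ι ≫ t) ≫ (1 : E ⟶ H).left
      rw [h1, Category.assoc, Category.assoc, reassoc_of% htg, ht]
    · show (t₀ ≫ pullback.lift _ _ _) ≫ pullback.snd _ _ = (t₀ ≫ pullback.lift _ _ _) ≫ pullback.snd _ _
      erw [Category.assoc, Category.assoc, pullback.lift_snd, pullback.lift_snd, pullback.lift_snd]
      exact (pullback.lift_snd _ _ _).symm
  haveI : Mono j := Over.mono_of_mono_left j
  have hinc : inc = 1 := (cancel_mono j).1 ((hG E hal).1 (by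
    show (Over.pullback S₀.ι).map (inc ≫ j) = (Over.pullback S₀.ι).map (1 ≫ j)
    rw [Functor.map_comp, Functor.map_comp, hF]))
  have hι : e.imageι = g ≫ e := by rw [← h1, ← hinc]; rfl
  have hgt : g ≫ t = 𝟙 _ := (cancel_mono e.imageι).1 (by rw [Category.assoc, ht, Category.id_comp]; exact hι.symm)
  haveI : IsIso t := ⟨g, htg, hgt⟩
  haveI : IsClosedImmersion η[H].left := by
    show IsClosedImmersion e
    rw [← ht]; infer_instance
  rw [isSeparated_iff]
  exact (GrpSchLib.diagonal_iff_unit @IsClosedImmersion).mpr ‹_›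

end Groth.Agent.AlignedSepLib
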